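import Cfsg.Agent.Lib.PG.Cols

/-!
Bit-sliced arithmetic: sums, multiples and linear forms of columns of bit planes.
-/

set_option autoImplicit false

namespace Cfsg.Agent.PG

theorem colVal_nil (i : ℕ) : colVal [] i = 0 := rfl

theorem beq_zero_false {c : ℕ} (h : c ≠ 0) : Nat.beq c 0 = false := by
  rw [← Bool.not_eq_true, Nat.beq_eq]; exact h

/-- add a carry plane -/
noncomputable def addC (S : List ℕ) : ℕ → List ℕ :=
  List.rec (motive := fun _ => ℕ → List ℕ) (fun c => iteB (Nat.beq c 0) [] [c])
    (fun a S ih c => iteB (Nat.beq c 0) (a :: S)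
      (force (Nat.xor a c) fun s => force (Nat.land a c) fun c' => s :: ih c')) S

theorem colVal_addC (S : List ℕ) (c i : ℕ) :
    colVal (addC S c) i = colVal S i + (c.testBit i).toNat := by
  induction S generalizing c with
  | nil =>
    show colVal (iteB (Nat.beq c 0) [] [c]) i = _
    by_cases h : c = 0
    · subst h; simp [colVal_nil]
    · rw [beq_zero_false h, iteB_false, colVal_cons, colVal_nil]; simp
  | cons a S ih =>
    show colVal (iteB (Nat.beq c 0) (a :: S)
      (force (a ^^^ c) fun s => force (a &&& c) fun c' => s :: addC S c')) i = _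
    by_cases h : c = 0
    · subst h; simp
    · rw [beq_zero_false h, iteB_false, force_eq, force_eq, colVal_cons, colVal_cons, ih,
        Nat.testBit_xor, Nat.testBit_and]
      cases a.testBit i <;> cases c.testBit i <;> simp <;> omega

/-- add two lists of planes and a carry plane -/
noncomputable def addS (S : List ℕ) : List ℕ → ℕ → List ℕ :=
  List.rec (motive := fun _ => List ℕ → ℕ → List ℕ) (fun T c => addC T c)
    (fun a S ih T c => List.casesOn (motive := fun _ => List ℕ) T (addC (a :: S) c) fun b T' =>
      force (Nat.xor a b) fun x => force (Nat.xor x c) fun s =>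
        force (Nat.lor (Nat.land a b) (Nat.land x c)) fun c' => s :: ih T' c') S

theorem colVal_addS (S T : List ℕ) (c i : ℕ) :
    colVal (addS S T c) i = colVal S i + colVal T i + (c.testBit i).toNat := by
  induction S generalizing T c with
  | nil => show colVal (addC T c) i = _; rw [colVal_addC, colVal_nil]; omega
  | cons a S ih =>
    cases T with
    | nil => show colVal (addC (a :: S) c) i = _; rw [colVal_addC, colVal_nil]; omega
    | cons b T =>
      show colVal (force (a ^^^ b) fun x => force (x ^^^ c) fun s =>
        force ((a &&& b) ||| (x &&& c)) fun c' => s :: addS S T c') i = _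
      rw [force_eq, force_eq, force_eq, colVal_cons, colVal_cons, colVal_cons, ih]
      simp only [Nat.testBit_xor, Nat.testBit_and, Nat.testBit_or]
      cases a.testBit i <;> cases b.testBit i <;> cases c.testBit i <;> simp <;> omega

/-- `acc + m * X`, with fuel -/
noncomputable def mulAdd (X : List ℕ) (f : ℕ) : ℕ → List ℕ → List ℕ :=
  Nat.rec (motive := fun _ => ℕ → List ℕ → List ℕ) (fun _ acc => acc)
    (fun _ ih m acc => iteB (Nat.beq m 0) acc
      (force (Nat.div m 2) fun m' => List.casesOn (motive := fun _ => List ℕ)
        (iteB (Nat.beq (Nat.mod m 2) 1) (addS acc X 0) acc) (0 :: ih m' [])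
        fun h t => h :: ih m' t)) f

theorem colVal_mulAdd (X : List ℕ) (f m : ℕ) (hm : m ≤ f) (acc : List ℕ) (i : ℕ) :
    colVal (mulAdd X f m acc) i = colVal acc i + m * colVal X i := by
  induction f generalizing m acc with
  | zero => obtain rfl : m = 0 := by omega
            show colVal acc i = _; simp
  | succ f ih =>
    show colVal (iteB (Nat.beq m 0) acc
      (force (m / 2) fun m' => List.casesOn (motive := fun _ => List ℕ)
        (iteB (Nat.beq (m % 2) 1) (addS acc X 0) acc) (0 :: mulAdd X f m' [])
        fun h t => h :: mulAdd X f m' t)) i = _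
    by_cases h : m = 0
    · subst h; simp
    rw [beq_zero_false h, iteB_false, force_eq]
    have key : ∀ Y : List ℕ, colVal (List.casesOn (motive := fun _ => List ℕ) Y
        (0 :: mulAdd X f (m / 2) []) fun h t => h :: mulAdd X f (m / 2) t) i =
        colVal Y i + 2 * (m / 2 * colVal X i) := by
      intro Y
      cases Y with
      | nil => show colVal (0 :: _) i = _
               rw [colVal_cons, ih _ (by omega), colVal_nil]; simp
      | cons a Y => show colVal (a :: _) i = _
                    rw [colVal_cons, colVal_cons, ih _ (by omega)]; omega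
    rw [key]
    have e : m * colVal X i = 2 * (m / 2 * colVal X i) + m % 2 * colVal X i := by
      rw [← Nat.mul_assoc, ← Nat.add_mul, Nat.div_add_mod]
    rcases Nat.mod_two_eq_zero_or_one m with h1 | h1
    · rw [e, h1]; show colVal acc i + _ = _; omega
    · rw [e, h1]; show colVal (addS acc X 0) i + _ = _; rw [colVal_addS]; simp; omega

/-- the value of a linear form on a column -/
noncomputable def lin (row : List ℤ) (P : List (List ℕ)) (i : ℕ) : ℤ :=
  (List.zipWith (fun a X => a * (colVal X i : ℤ)) row P).sum

theorem lin_cons (a : ℤ) (row : List ℤ) (X : List ℕ) (P : List (List ℕ)) (i : ℕ) :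
    lin (a :: row) (X :: P) i = a * (colVal X i : ℤ) + lin row P i := by simp [lin]

theorem lin_eq_sum (row : List ℤ) (P : List (List ℕ)) (i n : ℕ) (h : row.length ≤ n) :
    lin row P i = ∑ k ∈ Finset.range n, row.getD k 0 * (colVal (P.getD k []) i : ℤ) := by
  induction row generalizing P n with
  | nil => simp [lin]
  | cons a row ih =>
    cases P with
    | nil => simp [lin, colVal_nil]
    | cons X P =>
      obtain ⟨n, rfl⟩ : ∃ k, n = k + 1 := ⟨n - 1, by simp at h; omega⟩
      rw [lin_cons, Finset.sum_range_succ', ih P n (by simpa using h)]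
      simp [add_comm]

theorem sum_eq_sum_getD (row : List ℤ) (n : ℕ) (h : row.length ≤ n) :
    row.sum = ∑ k ∈ Finset.range n, row.getD k 0 := by
  induction row generalizing n with
  | nil => simp
  | cons a row ih =>
    obtain ⟨n, rfl⟩ : ∃ k, n = k + 1 := ⟨n - 1, by simp at h; omega⟩
    rw [List.sum_cons, Finset.sum_range_succ', ih n (by simpa using h)]
    simp [add_comm]

/-- positive and negative part of a linear form -/
noncomputable def linS (row : List ℤ) :
    List (List ℕ) → List ℕ → List ℕ → (List ℕ → List ℕ → ℕ) → ℕ :=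
  List.rec (motive := fun _ => List (List ℕ) → List ℕ → List ℕ → (List ℕ → List ℕ → ℕ) → ℕ)
    (fun _ p n k => k p n)
    (fun a _ ih P p n k => List.casesOn (motive := fun _ => ℕ) P (k p n) fun X P' =>
      Int.rec (motive := fun _ => ℕ) (fun m => force m fun m => ih P' (mulAdd X m m p) n k)
        (fun m => force (Nat.succ m) fun m => ih P' p (mulAdd X m m n) k) a) row

theorem linS_spec (row : List ℤ) (P : List (List ℕ)) (p n : List ℕ) (k : List ℕ → List ℕ → ℕ) :
    ∃ p' n', linS row P p n k = k p' n' ∧ ∀ i, (colVal p' i : ℤ) - colVal n' i =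
      (colVal p i : ℤ) - colVal n i + lin row P i := by
  induction row generalizing P p n with
  | nil => exact ⟨p, n, rfl, fun i => by simp [lin]⟩
  | cons a row ih =>
    cases P with
    | nil => exact ⟨p, n, rfl, fun i => by simp [lin]⟩
    | cons X P =>
      cases a with
      | ofNat m =>
        obtain ⟨p', n', h1, h2⟩ := ih P (mulAdd X m m p) n
        refine ⟨p', n', ?_, fun i => ?_⟩
        · rw [← h1]; exact force_eq m fun m => linS row P (mulAdd X m m p) n k
        · rw [h2, colVal_mulAdd _ _ _ le_rfl, lin_cons]; simp; ring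
      | negSucc m =>
        obtain ⟨p', n', h1, h2⟩ := ih P p (mulAdd X (m + 1) (m + 1) n)
        refine ⟨p', n', ?_, fun i => ?_⟩
        · rw [← h1]; exact force_eq (m + 1) fun m => linS row P p (mulAdd X m m n) k
        · rw [h2, colVal_mulAdd _ _ _ le_rfl, lin_cons, Int.negSucc_eq]; push_cast; ring

/-- the union of the planes -/
noncomputable def orAcc (S : List ℕ) : ℕ → ℕ :=
  List.rec (motive := fun _ => ℕ → ℕ) (fun d => d) (fun a _ ih d => force (Nat.lor d a) ih) S

theorem orAcc_spec (S : List ℕ) (d i : ℕ) :
    (orAcc S d).testBit i = false ↔ d.testBit i = false ∧ colVal S i = 0 := by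
  induction S generalizing d with
  | nil => show d.testBit i = false ↔ _; simp [colVal_nil]
  | cons a S ih =>
    show (force (d ||| a) (orAcc S)).testBit i = false ↔ _
    rw [force_eq, ih, colVal_cons, Nat.testBit_or]
    cases d.testBit i <;> cases a.testBit i <;> simp

/-- the columns in which two lists of planes differ -/
noncomputable def difS (S : List ℕ) : List ℕ → ℕ → ℕ :=
  List.rec (motive := fun _ => List ℕ → ℕ → ℕ) (fun T d => orAcc T d)
    (fun a S ih T d => List.casesOn (motive := fun _ => ℕ) T (orAcc (a :: S) d) fun b T' =>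
      force (Nat.lor d (Nat.xor a b)) (ih T')) S

theorem difS_spec (S T : List ℕ) (d i : ℕ) :
    (difS S T d).testBit i = false ↔ d.testBit i = false ∧ colVal S i = colVal T i := by
  induction S generalizing T d with
  | nil => show (orAcc T d).testBit i = false ↔ _; rw [orAcc_spec, colVal_nil, eq_comm (a := 0)]
  | cons a S ih =>
    cases T with
    | nil => show (orAcc (a :: S) d).testBit i = false ↔ _; rw [orAcc_spec, colVal_nil]
    | cons b T =>
      show (force (d ||| (a ^^^ b)) (difS S T)).testBit i = false ↔ _
      rw [force_eq, ih, colVal_cons, colVal_cons, Nat.testBit_or, Nat.testBit_xor]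
      cases d.testBit i <;> cases a.testBit i <;> cases b.testBit i <;> simp <;> omega

theorem testBit_sdiff (B d i : ℕ) :
    (Nat.xor B (Nat.land B d)).testBit i = true ↔ B.testBit i = true ∧ d.testBit i = false := by
  show (B ^^^ (B &&& d)).testBit i = true ↔ _
  rw [Nat.testBit_xor, Nat.testBit_and]
  cases B.testBit i <;> cases d.testBit i <;> simp

/-- the columns in `B` on which a linear form vanishes -/
noncomputable def zeroM (B : ℕ) (row : List ℤ) (P : List (List ℕ)) : ℕ :=
  linS row P [] [] fun p n => Nat.xor B (Nat.land B (difS p n 0))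

theorem zeroM_spec {B : ℕ} {row : List ℤ} {P : List (List ℕ)} {i : ℕ} :
    (zeroM B row P).testBit i = true ↔ B.testBit i = true ∧ lin row P i = 0 := by
  obtain ⟨p, n, h1, h2⟩ := linS_spec row P [] [] fun p n => Nat.xor B (Nat.land B (difS p n 0))
  unfold zeroM
  rw [h1, testBit_sdiff, difS_spec]
  have := h2 i
  simp only [colVal_nil, Nat.zero_testBit, true_and] at this ⊢
  exact and_congr_right fun _ => by omega

theorem colVal_take (S : List ℕ) (k i : ℕ) : colVal (S.take k) i = colVal S i % 2 ^ k := by
  apply Nat.eq_of_testBit_eq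
  intro j
  rw [Nat.testBit_mod_two_pow, testBit_colVal, testBit_colVal, nthD_eq, nthD_eq]
  by_cases h : j < k
  · simp [h, List.getD_eq_getElem?_getD, List.getElem?_take_of_lt h]
  · simp [h, List.getD_eq_getElem?_getD, List.getElem?_take]

/-- the columns in `B` on which a linear form vanishes modulo 8 -/
noncomputable def zero8M (B : ℕ) (row : List ℤ) (P : List (List ℕ)) : ℕ :=
  linS row P [] [] fun p n => Nat.xor B (Nat.land B (difS (p.take 3) (n.take 3) 0))

theorem zero8M_spec {B : ℕ} {row : List ℤ} {P : List (List ℕ)} {i : ℕ} :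
    (zero8M B row P).testBit i = true ↔ B.testBit i = true ∧ lin row P i % 8 = 0 := by
  obtain ⟨p, n, h1, h2⟩ := linS_spec row P [] []
    fun p n => Nat.xor B (Nat.land B (difS (p.take 3) (n.take 3) 0))
  unfold zero8M
  rw [h1, testBit_sdiff, difS_spec, colVal_take, colVal_take]
  have := h2 i
  simp only [colVal_nil, Nat.zero_testBit, true_and] at this ⊢
  exact and_congr_right fun _ => by omega

/-- map with evaluation -/
noncomputable def mapF (f : ℕ → ℕ) (S : List ℕ) : List ℕ :=
  List.rec (motive := fun _ => List ℕ) [] (fun a _ ih => force (f a) fun b => b :: ih) S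

theorem colVal_mapF {f : ℕ → ℕ} {i j : ℕ} (h : ∀ v, (f v).testBit i = v.testBit j) (S : List ℕ) :
    colVal (mapF f S) i = colVal S j := by
  induction S with
  | nil => rfl
  | cons a S ih =>
    show colVal (force (f a) fun b => b :: mapF f S) i = _
    rw [force_eq, colVal_cons, colVal_cons, h, ih]

theorem colVal_single {B i : ℕ} (h : B.testBit i = true) : colVal [B] i = 1 := by
  rw [colVal_cons, h, colVal_nil]; rfl

theorem colVal_flatten_inj {P : List (List ℕ)} {i j : ℕ}
    (h : ∀ S ∈ P, colVal S i = colVal S j) : colVal P.flatten i = colVal P.flatten j := by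
  apply colVal_congr
  intro a ha
  obtain ⟨S, hS, ha⟩ := List.mem_flatten.1 ha
  obtain ⟨k, hk, rfl⟩ := List.getElem_of_mem ha
  have := congrArg (fun x => x.testBit k) (h S hS)
  simp only [testBit_colVal, nthD_eq, List.getD_eq_getElem _ _ hk] at this
  exact this

end Cfsg.Agent.PG
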